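import Groth.Prelude.Def_CartDual
import Groth.Prelude.Def_Versch
import Groth.Prelude.Def_AlphaP
import Groth.Agent.Lib.CartDual23.Basic
import Groth.Agent.Lib.HopfDim23.Basic
import Groth.Agent.Lib.SigmaLin.Basic
import Mathlib.RingTheory.HopfAlgebra.MonoidAlgebra
import Mathlib.Algebra.Algebra.ZMod

/-!
# Point derivations and homomorphisms from infinitesimal groups of order `p`
-/

set_option autoImplicit false

universe u v

open TensorProduct WithConv Coalgebra

noncomputable section

namespace Groth.Agent.InfPoint23

variable (k : Type u) [Field k] (A : Type v) [CommRing A] [HopfAlgebra k A]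

/-- Bilinear forms, as the convolution algebra of `A` with values in its dual. -/
abbrev Bil : Type (max u v) := WithConv (A →ₗ[k] CartDual.D k A)

variable {k A}

def bilL : CartDual.D k A →ₗ[k] Bil k A where
  toFun F := toConv
    { toFun := fun a => toConv (F.ofConv ∘ₗ LinearMap.mulLeft k a)
      map_add' := fun a b => ofConv_injective (LinearMap.ext fun c => by simp [add_mul])
      map_smul' := fun c a => ofConv_injective (LinearMap.ext fun b => by simp) }
  map_add' F G := ofConv_injective (LinearMap.ext fun a => ofConv_injective (LinearMap.ext fun b => by simp))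
  map_smul' c F := ofConv_injective (LinearMap.ext fun a => ofConv_injective (LinearMap.ext fun b => by simp))

theorem bilL_apply (F : CartDual.D k A) (a b : A) : ((bilL F).ofConv a).ofConv b = F (a * b) := rfl

theorem bil_ext {F G : Bil k A} (h : ∀ a b, (F.ofConv a).ofConv b = (G.ofConv a).ofConv b) : F = G :=
  ofConv_injective (LinearMap.ext fun a => ofConv_injective (LinearMap.ext fun b => h a b))

/-- Transpose of the multiplication. -/
def bil : CartDual.D k A →ₐ[k] Bil k A :=
  AlgHom.ofLinearMap bilL
    (bil_ext fun a b => by
      rw [bilL_apply]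
      simp [CartDual.coe_apply, LinearMap.convOne_def, Algebra.algebraMap_eq_smul_one, mul_comm])
    (fun F G => bil_ext fun a b => by
      rw [bilL_apply]
      simp only [CartDual.coe_apply, LinearMap.convMul_def, ofConv_toConv, LinearMap.comp_apply, Bialgebra.comul_mul]
      generalize comul (R := k) a = z
      induction z with
      | zero => simp
      | add z z' hz hz' => simp only [add_mul, map_add, WithConv.ofConv_add, LinearMap.add_apply, hz, hz']
      | tmul a₁ a₂ =>
        simp only [TensorProduct.map_tmul, LinearMap.mul'_apply]
        rw [LinearMap.convMul_def, ofConv_toConv, LinearMap.comp_apply, LinearMap.comp_apply]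
        generalize comul (R := k) b = w
        induction w with
        | zero => simp
        | add w w' hw hw' => simp only [mul_add, map_add, hw, hw']
        | tmul b₁ b₂ =>
          rw [Algebra.TensorProduct.tmul_mul_tmul]
          simp [bilL])

theorem bil_apply (F : CartDual.D k A) (a b : A) : ((bil F).ofConv a).ofConv b = F (a * b) := rfl

/-- The form `(a, b) ↦ P a · ε b`. -/
def left : CartDual.D k A →ₐ[k] Bil k A :=
  AlgHom.ofLinearMap
    { toFun := fun P => toConv (P.ofConv.smulRight (1 : CartDual.D k A))
      map_add' := fun P Q => ofConv_injective (LinearMap.ext fun a => by simp [add_smul])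
      map_smul' := fun c P => ofConv_injective (LinearMap.ext fun a => by simp [smul_smul]) }
    (ofConv_injective (LinearMap.ext fun a => by
      simp [LinearMap.convOne_def, Algebra.algebraMap_eq_smul_one]))
    (fun P Q => ofConv_injective (LinearMap.ext fun a => by
      simp only [LinearMap.coe_mk, AddHom.coe_mk, LinearMap.convMul_def, ofConv_toConv, LinearMap.smulRight_apply,
        LinearMap.comp_apply]
      generalize comul (R := k) a = z
      induction z with
      | zero => simp
      | add z z' hz hz' => simp only [map_add, add_smul, hz, hz']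
      | tmul a₁ a₂ => simp [smul_smul, smul_mul_assoc, mul_comm]))

/-- The form `(a, b) ↦ ε a · P b`. -/
def right : CartDual.D k A →ₐ[k] Bil k A :=
  AlgHom.ofLinearMap
    { toFun := fun P => toConv ((CoalgebraStruct.counit (R := k) (A := A)).smulRight P)
      map_add' := fun P Q => ofConv_injective (LinearMap.ext fun a => by simp [smul_add])
      map_smul' := fun c P => ofConv_injective (LinearMap.ext fun a => by simp [smul_smul, smul_mul_assoc, mul_comm]) }
    (ofConv_injective (LinearMap.ext fun a => by
      simp [LinearMap.convOne_def, Algebra.algebraMap_eq_smul_one]))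
    (fun P Q => ofConv_injective (LinearMap.ext fun a => by
      simp only [LinearMap.coe_mk, AddHom.coe_mk, LinearMap.convMul_def (A := CartDual.D k A), ofConv_toConv,
        LinearMap.smulRight_apply, LinearMap.comp_apply]
      have h := congrArg (TensorProduct.lid k A) (rTensor_counit_comul (R := k) a)
      have key : ∀ z : A ⊗[k] A, LinearMap.mul' k (CartDual.D k A)
          (TensorProduct.map ((CoalgebraStruct.counit (R := k) (A := A)).smulRight P)
            ((CoalgebraStruct.counit (R := k) (A := A)).smulRight Q) z) =
          (CoalgebraStruct.counit (R := k) (TensorProduct.lid k A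
            ((CoalgebraStruct.counit (R := k) (A := A)).rTensor A z))) • (P * Q) := by
        intro z
        induction z with
        | zero => simp
        | add z z' hz hz' => simp only [map_add, add_smul, hz, hz']
        | tmul a₁ a₂ => simp [smul_smul, smul_mul_assoc, mul_comm]
      rw [key, h]
      simp))

theorem left_mul_right (P Q : CartDual.D k A) :
    left P * right Q = (toConv (P.ofConv.smulRight Q) : Bil k A) := by
  refine ofConv_injective (LinearMap.ext fun a => ?_)
  show LinearMap.mul' k (CartDual.D k A) (TensorProduct.map (P.ofConv.smulRight (1 : CartDual.D k A))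
      ((CoalgebraStruct.counit (R := k) (A := A)).smulRight Q) (comul (R := k) a)) = P.ofConv a • Q
  have h := congrArg (TensorProduct.rid k A) (lTensor_counit_comul (R := k) a)
  have key : ∀ z : A ⊗[k] A, LinearMap.mul' k (CartDual.D k A)
      (TensorProduct.map (P.ofConv.smulRight (1 : CartDual.D k A))
        ((CoalgebraStruct.counit (R := k) (A := A)).smulRight Q) z) =
      (P.ofConv (TensorProduct.rid k A ((CoalgebraStruct.counit (R := k) (A := A)).lTensor A z))) • Q := by
    intro z
    induction z with
    | zero => simp
    | add z z' hz hz' => simp only [map_add, add_smul, hz, hz']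
    | tmul a₁ a₂ => simp [smul_smul, smul_mul_assoc, mul_comm]
  rw [key, h]
  simp

theorem left_mul_right_apply (P Q : CartDual.D k A) (a b : A) :
    ((left P * right Q).ofConv a).ofConv b = P a * Q b := by
  rw [left_mul_right]; simp [CartDual.coe_apply]

theorem right_mul_left (P Q : CartDual.D k A) : right Q * left P = left P * right Q := by
  rw [left_mul_right]
  refine ofConv_injective (LinearMap.ext fun a => ?_)
  show LinearMap.mul' k (CartDual.D k A) (TensorProduct.map ((CoalgebraStruct.counit (R := k) (A := A)).smulRight Q)
      (P.ofConv.smulRight (1 : CartDual.D k A)) (comul (R := k) a)) = P.ofConv a • Q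
  have h := congrArg (TensorProduct.lid k A) (rTensor_counit_comul (R := k) a)
  have key : ∀ z : A ⊗[k] A, LinearMap.mul' k (CartDual.D k A)
      (TensorProduct.map ((CoalgebraStruct.counit (R := k) (A := A)).smulRight Q)
        (P.ofConv.smulRight (1 : CartDual.D k A)) z) =
      (P.ofConv (TensorProduct.lid k A ((CoalgebraStruct.counit (R := k) (A := A)).rTensor A z))) • Q := by
    intro z
    induction z with
    | zero => simp
    | add z z' hz hz' => simp only [map_add, add_smul, hz, hz']
    | tmul a₁ a₂ => simp [smul_smul, smul_mul_assoc, mul_comm]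
  rw [key, h]
  simp

/-- A point derivation at the unit. -/
def IsPointDer (D : CartDual.D k A) : Prop := bil D = left D + right D

theorem isPointDer_iff (D : CartDual.D k A) :
    IsPointDer D ↔ ∀ a b, D (a * b) = D a * counit (R := k) b + counit (R := k) a * D b := by
  have h : ∀ a b, ((left D + right D).ofConv a).ofConv b = D a * counit (R := k) b + counit (R := k) a * D b := by
    intro a b
    simp [left, right, CartDual.coe_apply, LinearMap.convOne_def]
  constructor
  · intro hD a b
    rw [← bil_apply, hD, h]
  · exact fun hD => bil_ext fun a b => by rw [bil_apply, hD, h]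

theorem apply_one {D : CartDual.D k A} (hD : IsPointDer D) : D (1 : A) = 0 := by
  have := (isPointDer_iff D).1 hD 1 1
  simpa using this

variable (p : ℕ) [Fact p.Prime] [CharP k p]

instance : Nontrivial (Bil k A) := by
  refine ⟨⟨1, 0, fun h => ?_⟩⟩
  have h1 := congrArg (fun F : Bil k A => (F.ofConv 1).ofConv 1) h
  rw [← map_one (bil (k := k) (A := A)), bil_apply] at h1
  simp [CartDual.coe_apply, LinearMap.convOne_def] at h1

theorem isPointDer_pow {D : CartDual.D k A} (hD : IsPointDer D) : IsPointDer (D ^ p) := by
  haveI : CharP (Bil k A) p := charP_of_injective_algebraMap (algebraMap k (Bil k A)).injective p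
  show bil (D ^ p) = left (D ^ p) + right (D ^ p)
  rw [map_pow, map_pow, map_pow, show bil D = left D + right D from hD,
    add_pow_char_of_commute (p := p) (h := (show Commute (left D) (right D) from (right_mul_left D D).symm))]

theorem isPointDer_smul {D : CartDual.D k A} (hD : IsPointDer D) (c : k) : IsPointDer (c • D) := by
  show bil (c • D) = left (c • D) + right (c • D)
  rw [map_smul, map_smul, map_smul, show bil D = left D + right D from hD, smul_add]

theorem isPointDer_add {D E : CartDual.D k A} (hD : IsPointDer D) (hE : IsPointDer E) : IsPointDer (D + E) := by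
  show bil (D + E) = left (D + E) + right (D + E)
  rw [map_add, map_add, map_add, show bil D = left D + right D from hD, show bil E = left E + right E from hE]
  abel

/-- A nonzero derivation killed by, or fixed under, the `p`-th power. -/
theorem exists_normalized [IsAlgClosed k] [FiniteDimensional k A] {D : CartDual.D k A} (hD : IsPointDer D)
    (hne : D ≠ 0) : ∃ E : CartDual.D k A, IsPointDer E ∧ E ≠ 0 ∧ (E ^ p = 0 ∨ E ^ p = E) := by
  classical
  by_cases hnil : ∃ E : CartDual.D k A, IsPointDer E ∧ E ≠ 0 ∧ E ^ p = 0
  · obtain ⟨E, h1, h2, h3⟩ := hnil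
    exact ⟨E, h1, h2, Or.inl h3⟩
  push Not at hnil
  haveI : Module.Finite k (CartDual.D k A) := Module.Finite.equiv (CartDual.toDual k A).symm
  let W : Submodule k (CartDual.D k A) := Submodule.span k (Set.range fun n : ℕ => D ^ p ^ n)
  have hder : ∀ w ∈ W, IsPointDer w := by
    have hpow : ∀ n, IsPointDer (D ^ p ^ n) := fun n => by
      induction n with
      | zero => simpa using hD
      | succ n ih => rw [pow_succ, pow_mul]; exact isPointDer_pow p ih
    intro w hw
    induction hw using Submodule.span_induction with
    | mem x hx => obtain ⟨n, rfl⟩ := hx; exact hpow n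
    | zero => show bil 0 = left 0 + right 0; simp
    | add x y _ _ hx hy => exact isPointDer_add hx hy
    | smul c x _ hx => exact isPointDer_smul hx c
  have hcomm : ∀ w ∈ W, ∀ w' ∈ W, Commute w w' := by
    have hsub : W ≤ Subalgebra.toSubmodule (Algebra.adjoin k {D}) := Submodule.span_le.2 (by
      rintro _ ⟨n, rfl⟩; exact pow_mem (Algebra.self_mem_adjoin_singleton k D) _)
    intro w hw w' hw'
    exact Algebra.commute_of_mem_adjoin_singleton_of_commute (hsub hw')
      (Algebra.commute_of_mem_adjoin_singleton_of_commute (hsub hw) (Commute.refl D)).symm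
  have hmem : ∀ w ∈ W, w ^ p ∈ W := by
    intro w hw
    induction hw using Submodule.span_induction with
    | mem x hx => obtain ⟨n, rfl⟩ := hx; rw [← pow_mul, ← pow_succ]; exact Submodule.subset_span ⟨n + 1, rfl⟩
    | zero => rw [zero_pow (Fact.out : p.Prime).pos.ne']; exact zero_mem _
    | add x y hx hy ihx ihy => rw [add_pow_char_of_commute (p := p) (h := hcomm x hx y hy)]; exact add_mem ihx ihy
    | smul c x _ hx => rw [smul_pow]; exact Submodule.smul_mem _ _ hx
  let T : W →ₛₗ[iterateFrobenius k p 1] W :=
    { toFun := fun w => ⟨(w : CartDual.D k A) ^ p, hmem w w.2⟩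
      map_add' := fun x y => Subtype.ext (add_pow_char_of_commute (p := p) (h := hcomm x x.2 y y.2))
      map_smul' := fun c x => Subtype.ext (by simp [smul_pow, iterateFrobenius_def, frobenius_def]) }
  let e : W := ⟨D, Submodule.subset_span ⟨0, by simp⟩⟩
  have hT : ∀ w, T w = 0 → w = 0 := fun w hw => by
    by_contra h0
    exact hnil w (hder w w.2) (fun h => h0 (Subtype.ext h)) (congrArg Subtype.val hw)
  obtain ⟨v, -, hv0, hv⟩ := SigmaLinLib.exists_fixed T (SigmaLinLib.cond2_frobenius k p 1 one_pos) e (fun m => by
    induction m with
    | zero => exact fun h => hne (congrArg Subtype.val h)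
    | succ m ih => rw [Function.iterate_succ_apply']; exact fun h => ih (hT _ h))
  exact ⟨v, hder v v.2, fun h => hv0 (Subtype.ext h), Or.inr (congrArg Subtype.val hv)⟩

end Groth.Agent.InfPoint23
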