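import Groth.Agent.Lib.InfPoint23.Basic
import Mathlib.Algebra.Polynomial.Roots
import Mathlib.Data.Nat.Prime.Factorial

/-!
# Homomorphisms attached to normalised point derivations
-/

set_option autoImplicit false

universe u v w

open TensorProduct WithConv Coalgebra

noncomputable section

namespace Groth.Agent.InfPoint23

variable {k : Type u} [Field k] {A : Type v} [CommRing A] [HopfAlgebra k A]

/-- The linear map `a ↦ ∑ Pᵢ a • gᵢ`. -/
def comb {B : Type w} [CommRing B] [Algebra k B] {ι : Type} (s : Finset ι) (P : ι → CartDual.D k A) (g : ι → B) :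
    A →ₗ[k] B := ∑ i ∈ s, (P i).ofConv.smulRight (g i)

theorem comb_apply {B : Type w} [CommRing B] [Algebra k B] {ι : Type} (s : Finset ι) (P : ι → CartDual.D k A)
    (g : ι → B) (a : A) : comb s P g a = ∑ i ∈ s, P i a • g i := by
  simp [comb, CartDual.coe_apply]

theorem map_comb_comul {B : Type w} [CommRing B] [Algebra k B] {ι : Type} (s : Finset ι) (P : ι → CartDual.D k A)
    (g : ι → B) (a : A) :
    TensorProduct.map (comb s P g) (comb s P g) (comul (R := k) a) =
      ∑ i ∈ s, ∑ j ∈ s, (P i * P j) a • (g i ⊗ₜ[k] g j) := by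
  simp only [CartDual.coe_apply, LinearMap.convMul_def, ofConv_toConv, LinearMap.comp_apply]
  generalize comul (R := k) a = z
  induction z with
  | zero => simp
  | add z z' hz hz' => simp only [map_add, add_smul, Finset.sum_add_distrib, hz, hz']
  | tmul a₁ a₂ =>
    simp only [TensorProduct.map_tmul, comb_apply, CartDual.coe_apply, LinearMap.mul'_apply, TensorProduct.sum_tmul,
      TensorProduct.tmul_sum, TensorProduct.smul_tmul', TensorProduct.tmul_smul, Finset.smul_sum, smul_smul]
    rw [Finset.sum_comm]
    refine Finset.sum_congr rfl fun i _ => Finset.sum_congr rfl fun j _ => ?_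
    rw [mul_comm]

section mu

variable (p : ℕ) [hp : Fact p.Prime] [CharP k p] {D : CartDual.D k A}

/-- The image of a residue class in the field. -/
def cast' (i : ZMod p) : k := ZMod.castHom (dvd_refl p) k i

theorem cast'_injective : Function.Injective (cast' (k := k) p) := (ZMod.castHom (dvd_refl p) k).injective

theorem cast'_pow (i : ZMod p) : (cast' (k := k) p i) ^ p = cast' p i := by
  rw [cast', ← map_pow, ZMod.pow_card]

/-- The polynomial function which is one at `i` and zero at the other residues. -/
def deltaPoly (i : ZMod p) : Polynomial k :=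
  1 - (Polynomial.X - Polynomial.C (cast' p i)) ^ (p - 1)

theorem eval_deltaPoly (i j : ZMod p) :
    (deltaPoly (k := k) p i).eval (cast' p j) = if j = i then 1 else 0 := by
  have h1 := hp.out.two_le
  split_ifs with h
  · subst h
    simp [deltaPoly, zero_pow (show p - 1 ≠ 0 by omega)]
  · have hne : j - i ≠ 0 := sub_ne_zero.2 h
    simp only [deltaPoly, Polynomial.eval_sub, Polynomial.eval_one, Polynomial.eval_pow, Polynomial.eval_X,
      Polynomial.eval_C, cast', ← map_sub, ← map_pow, ZMod.pow_card_sub_one_eq_one hne, map_one, sub_self]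

theorem sum_deltaPoly : ∑ i : ZMod p, deltaPoly (k := k) p i = 1 := by
  have h1 := hp.out.two_le
  refine Polynomial.eq_of_natDegree_lt_card_of_eval_eq _ _ (cast'_injective (k := k) p) (fun j => ?_) ?_
  · simp [Polynomial.eval_finset_sum, eval_deltaPoly]
  · rw [Polynomial.natDegree_one, max_eq_left (Nat.zero_le _), ZMod.card]
    refine lt_of_le_of_lt (Polynomial.natDegree_sum_le_of_forall_le _ _ fun i _ => ?_) (show p - 1 < p by omega)
    refine (Polynomial.natDegree_sub_le _ _).trans ?_
    simp

variable (D) in
/-- The projector to the eigenvalue `i`. -/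
def eig (i : ZMod p) : CartDual.D k A := Polynomial.aeval D (deltaPoly (k := k) p i)

theorem mul_eig (hD : D ^ p = D) (i : ZMod p) : D * eig p D i = cast' (k := k) p i • eig p D i := by
  haveI : CharP (CartDual.D k A) p := inferInstance
  have h : (D - algebraMap k _ (cast' p i)) * eig p D i = 0 := by
    rw [eig, deltaPoly]
    simp only [map_sub, map_one, map_pow, Polynomial.aeval_X, Polynomial.aeval_C]
    rw [mul_sub, mul_one, ← pow_succ', Nat.sub_add_cancel hp.out.one_lt.le,
      sub_pow_char_of_commute (p := p) (h := (Algebra.commutes (cast' (k := k) p i) D).symm), hD, ← map_pow, cast'_pow,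
      sub_self]
  rw [sub_mul, sub_eq_zero] at h
  rw [h, Algebra.smul_def]

theorem aeval_mul_of_eigen {S : Type w} [Ring S] [Algebra k S] {Y x : S} {c : k} (h : Y * x = c • x)
    (P : Polynomial k) : Polynomial.aeval Y P * x = P.eval c • x := by
  induction P using Polynomial.induction_on' with
  | add P Q hP hQ => rw [map_add, add_mul, hP, hQ, Polynomial.eval_add, add_smul]
  | monomial n a =>
    rw [Polynomial.aeval_monomial, Polynomial.eval_monomial, mul_assoc]
    have : Y ^ n * x = c ^ n • x := by
      induction n with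
      | zero => simp
      | succ n ih => rw [pow_succ, mul_assoc, h, mul_smul_comm, ih, smul_smul, ← pow_succ']
    rw [this, ← Algebra.smul_def, smul_smul]

theorem eig_mul (hD : D ^ p = D) (i j : ZMod p) :
    eig p D i * eig p D j = if i = j then eig p D j else 0 := by
  rw [eig, aeval_mul_of_eigen (mul_eig p hD j), eval_deltaPoly]
  split_ifs <;> simp_all

theorem sum_eig : ∑ i : ZMod p, eig p D i = 1 := by
  simp only [eig]
  rw [← map_sum, sum_deltaPoly, map_one]

theorem aeval_add_mul {S : Type w} [Ring S] [Algebra k S] {L R u v : S} {a b : k} (hc : R * u = u * R)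
    (hL : L * u = a • u) (hR : R * v = b • v) (P : Polynomial k) :
    Polynomial.aeval (L + R) P * (u * v) = P.eval (a + b) • (u * v) := by
  refine aeval_mul_of_eigen ?_ P
  rw [add_mul, ← mul_assoc, hL, smul_mul_assoc, ← mul_assoc, hc, mul_assoc, hR, mul_smul_comm, add_smul]

theorem eig_apply_mul (hder : IsPointDer D) (hD : D ^ p = D) (i : ZMod p) (a b : A) :
    eig p D i (a * b) = ∑ j, eig p D j a * eig p D (i - j) b := by
  classical
  have hone : (1 : Bil k A) = ∑ j, ∑ l, left (eig p D j) * right (eig p D l) := by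
    have h1 : left (∑ j, eig p D j) * right (∑ l, eig p D l) = ∑ j, ∑ l, left (eig p D j) * right (eig p D l) := by
      rw [map_sum, map_sum]
      exact Finset.sum_mul_sum (R := Bil k A) Finset.univ Finset.univ (fun j => left (eig p D j)) (fun l => right (eig p D l))
    rw [← h1, sum_eig, map_one, map_one]; exact (one_mul (1 : Bil k A)).symm
  have hLe : ∀ j, left D * left (eig p D j) = cast' (k := k) p j • left (eig p D j) := fun j =>
    (map_mul (left (k := k) (A := A)) D (eig p D j)).symm.trans (by rw [mul_eig p hD, map_smul])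
  have hRe : ∀ j, right D * right (eig p D j) = cast' (k := k) p j • right (eig p D j) := fun j =>
    (map_mul (right (k := k) (A := A)) D (eig p D j)).symm.trans (by rw [mul_eig p hD, map_smul])
  have key : bil (eig p D i) = ∑ j, left (eig p D j) * right (eig p D (i - j)) := by
    rw [eig, ← Polynomial.aeval_algHom_apply, show bil D = left D + right D from hder, ← mul_one (Polynomial.aeval _ _),
      hone]
    refine (Finset.mul_sum (R := Bil k A) _ _ _).trans (Finset.sum_congr rfl fun j _ => ?_)
    refine (Finset.mul_sum (R := Bil k A) _ _ _).trans ?_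
    rw [Finset.sum_eq_single (i - j)]
    · refine (aeval_add_mul (S := Bil k A) (right_mul_left _ _) (hLe j) (hRe _) _).trans ?_
      rw [cast', cast', ← map_add, add_sub_cancel, ← cast', eval_deltaPoly, if_pos rfl, one_smul]
    · intro l _ hl
      refine (aeval_add_mul (S := Bil k A) (right_mul_left _ _) (hLe j) (hRe _) _).trans ?_
      rw [cast', cast', ← map_add, ← cast', eval_deltaPoly, if_neg (fun h => hl (by rw [← h]; ring)), zero_smul]
    · simp
  have h := congrArg (fun F : Bil k A => (F.ofConv a).ofConv b) key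
  simp only [bil_apply, WithConv.ofConv_sum, LinearMap.sum_apply, left_mul_right_apply] at h
  exact h

theorem exists_mu (hder : IsPointDer D) (hne : D ≠ 0) (hD : D ^ p = D) [Module.Finite k A] :
    ∃ f : A →ₐc[k] MonoidAlgebra k (Multiplicative (ZMod p)), Function.Surjective f := by
  classical
  let g : ZMod p → MonoidAlgebra k (Multiplicative (ZMod p)) := fun i => MonoidAlgebra.single (Multiplicative.ofAdd i) 1
  have hg : ∀ i j, g i * g j = g (i + j) := fun i j => by simp [g, MonoidAlgebra.single_mul_single, ofAdd_add]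
  have hg0 : g 0 = 1 := by simp [g, MonoidAlgebra.one_def]
  have hD1 : ∀ i : ZMod p, eig p D i (1 : A) = if i = 0 then 1 else 0 := by
    intro i
    have h1 : ∀ P : Polynomial k, (Polynomial.aeval D P : CartDual.D k A) (1 : A) = P.eval 0 := by
      intro P
      induction P using Polynomial.induction_on with
      | C a => simp [CartDual.coe_apply, LinearMap.convAlgebraMap_apply]
      | add P Q hP hQ => rw [map_add, Polynomial.eval_add, ← hP, ← hQ]; simp [CartDual.coe_apply]
      | monomial n a _ =>
        rw [pow_succ, ← mul_assoc, map_mul, Polynomial.aeval_X, Polynomial.eval_mul, Polynomial.eval_X, mul_zero,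
          CartDual.coe_apply, LinearMap.convMul_def, LinearMap.comp_apply, LinearMap.comp_apply, Bialgebra.comul_one,
          Algebra.TensorProduct.one_def, TensorProduct.map_tmul, LinearMap.mul'_apply,
          show D.ofConv (1 : A) = 0 from apply_one hder, mul_zero]
    have h0 := eval_deltaPoly (k := k) p i 0
    rw [show cast' (k := k) p (0 : ZMod p) = 0 by simp [cast']] at h0
    rw [eig, h1, h0]
    by_cases h : i = 0
    · subst h; simp
    · simp [h, Ne.symm h]
  let f : A →ₐ[k] MonoidAlgebra k (Multiplicative (ZMod p)) :=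
    AlgHom.ofLinearMap (comb Finset.univ (eig p D) g)
      (by rw [comb_apply, Finset.sum_eq_single (0 : ZMod p) (fun i _ hi => by rw [hD1, if_neg hi, zero_smul]) (by simp),
        hD1, if_pos rfl, one_smul, hg0])
      (fun a b => by
        rw [comb_apply, comb_apply, comb_apply, Finset.sum_mul_sum]
        simp only [eig_apply_mul p hder hD, Finset.sum_smul, smul_mul_smul_comm, hg]
        rw [Finset.sum_comm]
        refine Finset.sum_congr rfl fun j _ => ?_
        refine Fintype.sum_equiv (Equiv.subRight j) _ _ fun i => ?_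
        simp)
  have hf : ∀ a, f a = ∑ i, eig p D i a • g i := fun a => comb_apply _ _ _ a
  let F : A →ₐc[k] MonoidAlgebra k (Multiplicative (ZMod p)) := BialgHom.ofAlgHom f
    (AlgHom.ext fun a => by
      show Coalgebra.counit (R := k) (f a) = Coalgebra.counit (R := k) a
      rw [hf, map_sum]
      have h := congrArg (fun P : CartDual.D k A => P.ofConv a) (sum_eig (k := k) (D := D) p)
      simp only [WithConv.ofConv_sum, LinearMap.sum_apply, LinearMap.convOne_def, ofConv_toConv] at h
      simp [g, CartDual.coe_apply] at h ⊢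
      exact h)
    (AlgHom.ext fun a => by
      show TensorProduct.map (comb Finset.univ (eig p D) g) (comb Finset.univ (eig p D) g) (comul (R := k) a) =
        comul (R := k) (f a)
      rw [map_comb_comul, hf, map_sum]
      refine Finset.sum_congr rfl fun i _ => ?_
      rw [Finset.sum_eq_single i (fun j _ hj => by rw [eig_mul p hD, if_neg (Ne.symm hj)]; simp [CartDual.coe_apply])
        (by simp), eig_mul p hD, if_pos rfl, map_smul, CartDual23.comul_single_one])
  have hdual : ∀ j, eig p D j ≠ 0 → ∃ a : A, ∀ l, eig p D l a = if l = j then 1 else 0 := by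
    intro j hj
    obtain ⟨a, ha⟩ : ∃ a : A, eig p D j a ≠ 0 := by
      by_contra h
      push Not at h
      exact hj (WithConv.ofConv_injective (LinearMap.ext h))
    let K : ZMod p → CartDual.D k A := fun l => eig p D l
    have hsurj : ∀ c : CartDual.D k A →ₗ[k] k, ∃ b : A, ∀ x : CartDual.D k A, x b = c x := by
      intro c
      refine ⟨(Module.evalEquiv k A).symm (c ∘ₗ (CartDual.toDual k A).symm.toLinearMap), fun x => ?_⟩
      have h := LinearMap.congr_fun ((Module.evalEquiv k A).apply_symm_apply
        (c ∘ₗ (CartDual.toDual k A).symm.toLinearMap)) x.ofConv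
      rw [Module.evalEquiv_apply, Module.Dual.eval_apply] at h
      exact h
    -- evaluate `x ↦ x * E_j` at a point where `E_j` does not vanish
    obtain ⟨b, hb⟩ := hsurj
      { toFun := fun x => (eig p D j a)⁻¹ * (x * eig p D j) a
        map_add' := fun x y => by rw [add_mul]; simp [CartDual.coe_apply, mul_add]
        map_smul' := fun c x => by rw [smul_mul_assoc]; simp [CartDual.coe_apply, mul_left_comm] }
    refine ⟨b, fun l => ?_⟩
    rw [hb]
    show (eig p D j a)⁻¹ * (eig p D l * eig p D j) a = _
    rw [eig_mul p hD]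
    split_ifs
    · exact inv_mul_cancel₀ ha
    · simp [CartDual.coe_apply]
  have hclosed : ∀ j l, eig p D j ≠ 0 → eig p D l ≠ 0 → eig p D (j + l) ≠ 0 := by
    intro j l hj hl h0
    obtain ⟨a, ha⟩ := hdual j hj
    obtain ⟨b, hb⟩ := hdual l hl
    have h := eig_apply_mul p hder hD (j + l) a b
    rw [h0, Finset.sum_eq_single j (fun i _ hi => by rw [ha, if_neg hi, zero_mul]) (by simp), ha, hb, if_pos rfl,
      if_pos (by ring), one_mul, CartDual.coe_apply] at h
    simp at h
  obtain ⟨i₀, hi₀, hne₀⟩ : ∃ i : ZMod p, i ≠ 0 ∧ eig p D i ≠ 0 := by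
    by_contra h
    push Not at h
    refine hne ?_
    calc D = D * ∑ i, eig p D i := by rw [sum_eig, mul_one]
      _ = ∑ i, cast' (k := k) p i • eig p D i := by rw [Finset.mul_sum]; exact Finset.sum_congr rfl fun i _ => mul_eig p hD i
      _ = 0 := Finset.sum_eq_zero fun i _ => by
        by_cases hi : i = 0
        · simp [hi, cast']
        · rw [h i hi, smul_zero]
  have hall : ∀ i, eig p D i ≠ 0 := by
    have hn : ∀ n : ℕ, eig p D ((n + 1 : ℕ) • i₀) ≠ 0 := fun n => by
      induction n with
      | zero => simpa using hne₀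
      | succ n ih => rw [succ_nsmul]; exact hclosed _ _ ih hne₀
    intro i
    obtain ⟨n, hn'⟩ : ∃ n : ℕ, ((n + 1 : ℕ) • i₀ : ZMod p) = i := by
      refine ⟨(i * i₀⁻¹ - 1).val, ?_⟩
      rw [nsmul_eq_mul, Nat.cast_add, ZMod.natCast_zmod_val, Nat.cast_one, sub_add_cancel, mul_assoc,
        inv_mul_cancel₀ hi₀, mul_one]
    exact hn' ▸ hn n
  choose a ha using fun i => hdual i (hall i)
  refine ⟨F, fun z => ?_⟩
  induction z using MonoidAlgebra.induction_on with
  | of m =>
    refine ⟨a (Multiplicative.toAdd m), ?_⟩
    show f _ = _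
    rw [hf, Finset.sum_eq_single (Multiplicative.toAdd m) (fun i _ hi => by rw [ha, if_neg hi, zero_smul]) (by simp),
      ha, if_pos rfl, one_smul]
    simp [g, MonoidAlgebra.of_apply]
  | add x y hx hy =>
    obtain ⟨x, rfl⟩ := hx; obtain ⟨y, rfl⟩ := hy
    exact ⟨x + y, map_add F x y⟩
  | smul c x hx =>
    obtain ⟨x, rfl⟩ := hx
    exact ⟨c • x, map_smul F c x⟩

end mu

section alpha

variable (p : ℕ) [hp : Fact p.Prime] [CharP k p] {D : CartDual.D k A}

theorem sum_antidiag {M : Type w} [AddCommMonoid M] (G : ℕ × ℕ → M) (hG : ∀ j l, p ≤ j + l → G (j, l) = 0) :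
    ∑ n ∈ Finset.range p, ∑ x ∈ Finset.antidiagonal n, G x =
      ∑ j ∈ Finset.range p, ∑ l ∈ Finset.range p, G (j, l) := by
  classical
  rw [← Finset.sum_product']
  rw [← Finset.sum_biUnion (fun n _ m _ hnm => Finset.disjoint_left.2 fun x hx hx' => hnm (by
    rw [← Finset.mem_antidiagonal.1 hx, ← Finset.mem_antidiagonal.1 hx']))]
  refine Finset.sum_subset (fun x hx => ?_) fun x hx hx' => hG _ _ ?_
  · obtain ⟨n, hn, hx⟩ := Finset.mem_biUnion.1 hx
    rw [Finset.mem_antidiagonal] at hx
    rw [Finset.mem_range] at hn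
    rw [Finset.mem_product, Finset.mem_range, Finset.mem_range]
    omega
  · by_contra h
    push Not at h
    exact hx' (Finset.mem_biUnion.2 ⟨x.1 + x.2, Finset.mem_range.2 h, Finset.mem_antidiagonal.2 rfl⟩)

variable (k) in
/-- Inverse factorials. -/
def cf (n : ℕ) : k := (n.factorial : k)⁻¹

theorem cf_choose {j l : ℕ} (h : j + l < p) : cf k (j + l) * (((j + l).choose j : ℕ) : k) = cf k j * cf k l := by
  have hne : ∀ n, n < p → (n.factorial : k) ≠ 0 := fun n hn h0 => by
    rw [CharP.cast_eq_zero_iff k p, Nat.Prime.dvd_factorial hp.out] at h0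
    omega
  have h1 := hne _ h
  have h2 := hne j (by omega)
  have h3 := hne l (by omega)
  have e' : ((j + l).choose j * j.factorial * l.factorial) = (j + l).factorial := by
    have := Nat.choose_mul_factorial_mul_factorial (Nat.le_add_right j l)
    rwa [Nat.add_sub_cancel_left] at this
  have e : (((j + l).choose j : ℕ) : k) * (j.factorial : k) * (l.factorial : k) = ((j + l).factorial : k) := by
    rw [← Nat.cast_mul, ← Nat.cast_mul, e']
  simp only [cf]
  field_simp
  linear_combination e

theorem pow_apply_mul (hder : IsPointDer D) (n : ℕ) (a b : A) :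
    (D ^ n) (a * b) = ∑ x ∈ Finset.antidiagonal n, (n.choose x.1 : k) * ((D ^ x.1) a * (D ^ x.2) b) := by
  rw [← bil_apply, map_pow, show bil D = left D + right D from hder,
    (show Commute (left D) (right D) from (right_mul_left D D).symm).add_pow', WithConv.ofConv_sum, LinearMap.sum_apply,
    WithConv.ofConv_sum, LinearMap.sum_apply]
  refine Finset.sum_congr rfl fun x _ => ?_
  rw [← map_pow, ← map_pow, ← Nat.cast_smul_eq_nsmul k, WithConv.ofConv_smul, LinearMap.smul_apply, WithConv.ofConv_smul,
    LinearMap.smul_apply, left_mul_right_apply, smul_eq_mul]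

theorem pow_eq_zero_of_le (hD : D ^ p = 0) {n : ℕ} (hn : p ≤ n) : D ^ n = 0 := by
  rw [← Nat.add_sub_cancel' hn, pow_add, hD, zero_mul]

theorem exists_alpha (hder : IsPointDer D) (hne : D ≠ 0) (hD : D ^ p = 0) [Module.Finite k A] :
    ∃ f : A →ₐc[k] AlphaP.A p k, Function.Surjective f := by
  classical
  set x := AlphaP.x p k with hx
  let P : ℕ → CartDual.D k A := fun n => cf k n • D ^ n
  have hP : ∀ n a, P n a = cf k n * (D ^ n) a := fun n a => by simp [P, CartDual.coe_apply]
  have hpow1 : ∀ n, n ≠ 0 → (D ^ n) (1 : A) = 0 := fun n hn => by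
    obtain ⟨m, rfl⟩ := Nat.exists_eq_succ_of_ne_zero hn
    rw [pow_succ, CartDual.coe_apply, LinearMap.convMul_def, LinearMap.comp_apply, LinearMap.comp_apply, Bialgebra.comul_one,
      Algebra.TensorProduct.one_def, TensorProduct.map_tmul, LinearMap.mul'_apply,
      show D.ofConv (1 : A) = 0 from apply_one hder, mul_zero]
  let f : A →ₐ[k] AlphaP.A p k :=
    AlgHom.ofLinearMap (comb (Finset.range p) P (fun n => x ^ n))
      (by
        rw [comb_apply, Finset.sum_eq_single 0 (fun n _ hn => by rw [hP, hpow1 n hn, mul_zero, zero_smul])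
          (fun h => absurd (Finset.mem_range.2 hp.out.pos) h)]
        simp [hP, cf, CartDual.coe_apply, LinearMap.convOne_def])
      (fun a b => by
        rw [comb_apply, comb_apply, comb_apply, Finset.sum_mul_sum]
        simp only [hP, pow_apply_mul hder, Finset.mul_sum, Finset.sum_smul]
        rw [show (∑ n ∈ Finset.range p, ∑ y ∈ Finset.antidiagonal n,
            (cf k n * ((n.choose y.1 : k) * ((D ^ y.1) a * (D ^ y.2) b))) • x ^ n) =
          ∑ n ∈ Finset.range p, ∑ y ∈ Finset.antidiagonal n,
            (cf k y.1 * (D ^ y.1) a * (cf k y.2 * (D ^ y.2) b)) • x ^ (y.1 + y.2) from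
          Finset.sum_congr rfl fun n hn => Finset.sum_congr rfl fun y hy => by
            obtain rfl := Finset.mem_antidiagonal.1 hy
            congr 1
            rw [← mul_assoc, cf_choose p (Finset.mem_range.1 hn)]
            ring,
          sum_antidiag p (fun y => (cf k y.1 * (D ^ y.1) a * (cf k y.2 * (D ^ y.2) b)) • x ^ (y.1 + y.2))
            (fun j l h => by rw [hx, AlphaP.x_pow_of_le p k h, smul_zero])]
        refine Finset.sum_congr rfl fun j _ => Finset.sum_congr rfl fun l _ => ?_
        rw [smul_mul_smul_comm, ← pow_add])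
  have hf : ∀ a, f a = ∑ n ∈ Finset.range p, P n a • x ^ n := fun a => comb_apply _ _ _ a
  let F : A →ₐc[k] AlphaP.A p k := BialgHom.ofAlgHom f
    (AlgHom.ext fun a => by
      show Coalgebra.counit (R := k) (f a) = Coalgebra.counit (R := k) a
      rw [hf, map_sum, Finset.sum_eq_single 0 (fun n _ hn => by
          rw [map_smul, Bialgebra.counit_pow, hx, AlphaP.counit_x, zero_pow hn, smul_zero])
          (fun h => absurd (Finset.mem_range.2 hp.out.pos) h)]
      simp [hP, cf, CartDual.coe_apply, LinearMap.convOne_def])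
    (AlgHom.ext fun a => by
      show TensorProduct.map (comb (Finset.range p) P (fun n => x ^ n)) (comb (Finset.range p) P (fun n => x ^ n))
        (comul (R := k) a) = comul (R := k) (f a)
      rw [map_comb_comul, hf, map_sum]
      have e : ∀ j l, (P j * P l) a = cf k j * cf k l * (D ^ (j + l)) a := fun j l => by
        simp [P, pow_add, CartDual.coe_apply, mul_assoc, mul_left_comm]
      simp only [e]
      refine Eq.trans (sum_antidiag p (fun y => (cf k y.1 * cf k y.2 * (D ^ (y.1 + y.2)) a) • (x ^ y.1) ⊗ₜ[k] (x ^ y.2))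
        (fun j l h => by
          simp only [pow_eq_zero_of_le p hD h]
          simp [CartDual.coe_apply])).symm ?_
      refine Finset.sum_congr rfl fun n hn => ?_
      rw [map_smul, Bialgebra.comul_pow, hx, AlphaP.comul_x,
        (Commute.all (AlphaP.x p k ⊗ₜ[k] (1 : AlphaP.A p k)) (1 ⊗ₜ[k] AlphaP.x p k)).add_pow', Finset.smul_sum]
      refine Finset.sum_congr rfl fun y hy => ?_
      obtain rfl := Finset.mem_antidiagonal.1 hy
      rw [hP, Algebra.TensorProduct.tmul_pow, Algebra.TensorProduct.tmul_pow, one_pow, one_pow,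
        Algebra.TensorProduct.tmul_mul_tmul, mul_one, one_mul, ← Nat.cast_smul_eq_nsmul k, smul_smul,
        mul_right_comm (cf k (y.1 + y.2)), cf_choose p (Finset.mem_range.1 hn)])
  obtain ⟨a, ha⟩ : ∃ a : A, D a ≠ 0 := by
    by_contra h
    push Not at h
    exact hne (WithConv.ofConv_injective (LinearMap.ext h))
  let b : A := (D a)⁻¹ • (a - algebraMap k A (counit (R := k) a))
  have hb1 : D b = 1 := by
    have hone := apply_one hder
    simp only [b, CartDual.coe_apply, map_smul, map_sub, Algebra.algebraMap_eq_smul_one, smul_eq_mul] at hone ⊢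
    rw [hone, mul_zero, sub_zero]
    exact inv_mul_cancel₀ ha
  have hb0 : counit (R := k) b = 0 := by simp [b]
  have hfb : ∃ z, f b = x + x ^ 2 * z := by
    refine ⟨∑ n ∈ Finset.Ico 2 p, P n b • x ^ (n - 2), ?_⟩
    rw [hf, Finset.range_eq_Ico, Finset.sum_eq_sum_Ico_succ_bot hp.out.pos,
      Finset.sum_eq_sum_Ico_succ_bot hp.out.one_lt, Finset.mul_sum]
    have h0 : P 0 b = 0 := by
      rw [hP, pow_zero, CartDual.coe_apply, LinearMap.convOne_def]; simp [hb0]
    have h1 : P 1 b = 1 := by rw [hP, pow_one, hb1, mul_one]; simp [cf]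
    rw [h0, h1, zero_smul, zero_add, one_smul, pow_one]
    congr 1
    refine Finset.sum_congr rfl fun n hn => ?_
    rw [mul_smul_comm, ← pow_add, Nat.add_sub_cancel' (Finset.mem_Ico.1 hn).1]
  obtain ⟨z, hz⟩ := hfb
  have key : ∀ m, m ≤ p → ∀ y : AlphaP.A p k, x ^ (p - m) * y ∈ f.range := by
    intro m
    induction m with
    | zero => intro _ y; rw [Nat.sub_zero, hx, AlphaP.x_pow, zero_mul]; exact zero_mem _
    | succ m ih =>
      intro hm y
      obtain ⟨q, rfl⟩ := AlphaP.mk_surjective p k y
      obtain ⟨r, hr⟩ : ∃ r, AlphaP.mk p k q = algebraMap k _ (q.eval 0) + x * r := by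
        obtain ⟨w, hw⟩ := Polynomial.X_dvd_iff.2 (show (q - Polynomial.C (q.eval 0)).coeff 0 = 0 by
          simp [Polynomial.coeff_zero_eq_eval_zero])
        refine ⟨AlphaP.mk p k w, ?_⟩
        have := congrArg (AlphaP.mk p k) hw
        rw [map_sub, map_mul, AlphaP.mk_X] at this
        rw [sub_eq_iff_eq_add'] at this
        rw [this]
        congr 1
      rw [hr]
      set n := p - (m + 1) with hn
      have hn1 : p - m = n + 1 := by omega
      obtain ⟨s, hs⟩ : ∃ s, f b ^ n = x ^ n + x ^ (n + 1) * s := by
        rw [hz]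
        generalize n = n
        induction n with
        | zero => exact ⟨0, by simp⟩
        | succ n ih =>
          obtain ⟨s, hs⟩ := ih
          exact ⟨z + s + x * s * z, by rw [pow_succ, hs]; ring⟩
      have e : x ^ n * (algebraMap k _ (q.eval 0) + x * r) =
          algebraMap k _ (q.eval 0) * f b ^ n + x ^ (p - m) * (r - algebraMap k _ (q.eval 0) * s) := by
        rw [hs, hn1]; ring
      rw [e]
      exact add_mem (mul_mem (Subalgebra.algebraMap_mem _ _) (pow_mem ((AlgHom.mem_range f).2 ⟨b, rfl⟩) _)) (ih (by omega) _)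
  refine ⟨F, fun y => ?_⟩
  have := key p le_rfl y
  rwa [Nat.sub_self, pow_zero, one_mul] at this

end alpha

end Groth.Agent.InfPoint23
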